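import Groth.Agent.Lib.RelLift.Balance
import Groth.Agent.Lib.RelLift.Main
import Groth.Agent.Lib.Serre.Basic

/-!
# Finite Tor dimension gives finite projective dimension; base change of projective dimension
-/

universe u

open TensorProduct GrothLib.Serre GrothLib.Flatness

namespace GrothLib.DiagSmooth

/-- A cyclic module of finite Tor dimension over a noetherian ring has finite projective dimension. -/
theorem exists_pdLE_of_hasFiniteTorDim {R S : Type u} [CommRing R] [IsNoetherianRing R]
    [AddCommGroup S] [Module R S] (ε : (Fin 1 → R) →ₗ[R] S) (hε : Function.Surjective ε)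
    (h : DRing.HasFiniteTorDim R S) : ∃ n, PdLE R S n := by
  obtain ⟨n, hn⟩ := h
  obtain ⟨rk, hrk, d, hd0, hd⟩ := GrothLib.RelLift.exists_free_resolution ε
  let ε' : (Fin (rk 0) → R) →ₗ[R] S := ε ∘ₗ LinearMap.funLeft R R (Fin.cast hrk.symm)
  have hε' : Function.Surjective ε' := fun s => by
    obtain ⟨x, rfl⟩ := hε s
    exact ⟨fun i => x (Fin.cast hrk i), congrArg ε (funext fun j => rfl)⟩
  have h0 : Function.Exact (d 0) ε' := fun x => hd0 x
  let C : ℕ → Type u := fun i => (Fin (rk i) → R) ⧸ LinearMap.range (d i)
  have hflat : Module.Flat R (C n) :=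
    flat_of_good fun I _ =>
      GrothLib.RelLift.good_cokernel hn (fun i => Fin (rk i) → R) d ε' hε' h0 hd I n le_rfl
  have key : ∀ j i, i + j = n → PdLE R (C i) j := by
    intro j
    induction j with
    | zero =>
      intro i hi
      obtain rfl : i = n := hi
      rw [pdLE_zero_iff]
      haveI : Module.FinitePresentation R (C i) := Module.finitePresentation_of_finite R _
      haveI := hflat
      exact Module.Flat.projective_of_finitePresentation
    | succ j ih =>
      intro i hi
      show PdLE R ((Fin (rk i) → R) ⧸ LinearMap.range (d i)) (j + 1)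
      rw [pdLE_succ_iff (LinearMap.range (d i)).mkQ (Submodule.mkQ_surjective _) j]
      refine (pdLE_congr ?_ j).mp (ih (i + 1) (by omega))
      exact (Submodule.quotEquivOfEq _ _ (LinearMap.exact_iff.mp (hd i)).symm) ≪≫ₗ
        (d i).quotKerEquivRange ≪≫ₗ LinearEquiv.ofEq _ _ (Submodule.ker_mkQ _).symm
  refine ⟨n, (pdLE_congr ?_ n).mp (key n 0 (zero_add n))⟩
  exact (Submodule.quotEquivOfEq _ _ (LinearMap.exact_iff.mp h0).symm).trans
    (ε'.quotKerEquivOfSurjective hε')

/-- The kernel of a surjection of flat modules is flat. -/
theorem flat_ker {R F M : Type u} [CommRing R] [AddCommGroup F] [Module R F] [AddCommGroup M]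
    [Module R M] [Module.Flat R F] [Module.Flat R M] (f : F →ₗ[R] M) (hf : Function.Surjective f) :
    Module.Flat R (LinearMap.ker f) := by
  refine Module.Flat.iff_rTensor_injective'.mpr fun I => ?_
  have h1 : Function.Injective ((LinearMap.ker f).subtype.lTensor I) :=
    LinearMap.lTensor_injective_of_exact_of_flat f hf _ Subtype.val_injective
      (LinearMap.exact_subtype_ker_map f) I
  have h2 := (Module.Flat.rTensor_preserves_injective_linearMap (M := F) I.subtype I.subtype_injective).comp h1
  rw [← LinearMap.coe_comp, LinearMap.rTensor_comp_lTensor, ← LinearMap.lTensor_comp_rTensor,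
    LinearMap.coe_comp] at h2
  exact h2.of_comp

/-- Base change along `T → T ⊗_B K` preserves projective dimension of modules flat over `B`. -/
theorem pdLE_tensor_of_flat {B T K : Type u} [CommRing B] [CommRing T] [CommRing K] [Algebra B T]
    [Algebra B K] [Module.Flat B T] : ∀ (n : ℕ) (M : Type u) [AddCommGroup M] [Module T M]
      [Module B M] [IsScalarTower B T M] [Module.Flat B M],
      PdLE T M n → PdLE (T ⊗[B] K) ((T ⊗[B] K) ⊗[T] M) n := by
  intro n
  induction n with
  | zero =>
    intro M _ _ _ _ _ h
    rw [pdLE_zero_iff] at h ⊢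
    infer_instance
  | succ n ih =>
    intro M _ _ _ _ _ h
    obtain ⟨G, _, _, _, f, hf⟩ := GrothLib.HomDimCrit.exists_cover (R := T) M
    letI : Module B G := Module.compHom G (algebraMap B T)
    haveI : IsScalarTower B T G := IsScalarTower.of_algebraMap_smul fun b x => rfl
    haveI : Module.Flat B G := Module.Flat.trans B T _
    haveI : Module.Flat B (LinearMap.ker f) :=
      haveI : Module.Flat B (LinearMap.ker (f.restrictScalars B)) := flat_ker _ hf
      Module.Flat.of_linearEquiv (M := LinearMap.ker (f.restrictScalars B))
        { toFun := fun x => ⟨x.1, x.2⟩, invFun := fun x => ⟨x.1, x.2⟩,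
          map_add' := fun _ _ => rfl, map_smul' := fun _ _ => rfl }
    have hex : Function.Exact ((LinearMap.ker f).subtype.restrictScalars B) (f.restrictScalars B) :=
      fun x => (LinearMap.exact_subtype_ker_map f) x
    let g : LinearMap.ker f →ₗ[B] G := (LinearMap.ker f).subtype.restrictScalars B
    have hg : Function.Injective g := Subtype.val_injective
    have hginj : Function.Injective (g.lTensor K) :=
      LinearMap.lTensor_injective_of_exact_of_flat (f.restrictScalars B) hf g hg hex K
    have hinjB : Function.Injective (((LinearMap.ker f).subtype.restrictScalars B).rTensor K) :=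
      (LinearMap.lTensor_inj_iff_rTensor_inj (M := K) ((LinearMap.ker f).subtype.restrictScalars B)).mp
        hginj
    have hinj : Function.Injective ((LinearMap.ker f).subtype.lTensor (T ⊗[B] K)) := by
      refine (LinearMap.lTensor_inj_iff_rTensor_inj (M := T ⊗[B] K) _).mpr ?_
      let e₁ := TensorProduct.AlgebraTensorModule.cancelBaseChange B T T (LinearMap.ker f) K
      let e₂ := TensorProduct.AlgebraTensorModule.cancelBaseChange B T T G K
      have hcomm : ∀ z, e₂ ((LinearMap.ker f).subtype.rTensor (T ⊗[B] K) z) =
          ((LinearMap.ker f).subtype.restrictScalars B).rTensor K (e₁ z) := by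
        intro z
        induction z with
        | zero => simp
        | add a b ha hb => simp only [map_add, ha, hb]
        | tmul m w =>
          induction w with
          | zero => simp
          | add a b ha hb => simp only [tmul_add, map_add, ha, hb]
          | tmul t k => rfl
      intro z w hzw
      exact e₁.injective (hinjB (by rw [← hcomm, ← hcomm, hzw]))
    rw [pdLE_baseChange_succ_iff (T ⊗[B] K) f hf hinj n]
    exact ih _ ((pdLE_succ_iff f hf n).mp h)

end GrothLib.DiagSmooth
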