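import Groth.Agent.Lib.DiagSmooth.Basic
import Groth.Agent.Lib.LocProp.FibreSmooth
import Mathlib.RingTheory.EssentialFiniteness

/-!
# An essentially of finite type local algebra with perfect diagonal is a localization of a smooth one
-/

universe u

open TensorProduct IsLocalRing GrothLib.Serre

namespace GrothLib.DiagSmooth

theorem isNoetherianRing_of_essFiniteType (R S : Type*) [CommRing R] [CommRing S] [Algebra R S]
    [IsNoetherianRing R] [Algebra.EssFiniteType R S] : IsNoetherianRing S :=
  haveI := Algebra.FiniteType.isNoetherianRing R (Algebra.EssFiniteType.subalgebra R S)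
  IsLocalization.isNoetherianRing (Algebra.EssFiniteType.submonoid R S) S inferInstance

theorem exists_smooth_of_pdLE {A B : Type u} [CommRing A] [CommRing B] [Algebra A B]
    [IsNoetherianRing A] [IsLocalRing B] [Module.Flat A B] [Algebra.EssFiniteType A B]
    [Algebra (B ⊗[A] B) B]
    (hmul : ∀ x y : B, algebraMap (B ⊗[A] B) B (x ⊗ₜ[A] y) = x * y)
    {n : ℕ} (h : PdLE (B ⊗[A] B) B n) :
    ∃ (C : Type u) (_ : CommRing C) (_ : Algebra A C) (_ : Algebra C B) (_ : IsScalarTower A C B)
      (q : Ideal C) (_ : q.IsPrime), Algebra.Smooth A C ∧ IsLocalization.AtPrime B q := by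
  let S0 := Algebra.EssFiniteType.subalgebra A B
  let q : Ideal S0 := (maximalIdeal B).comap (algebraMap S0 B)
  haveI : q.IsPrime := Ideal.comap_isPrime _ _
  have hsub : Algebra.EssFiniteType.submonoid A B = q.primeCompl := by
    ext x
    show IsUnit (algebraMap S0 B x) ↔ algebraMap S0 B x ∉ maximalIdeal B
    rw [IsLocalRing.mem_maximalIdeal, mem_nonunits_iff, not_not]
  haveI hB : IsLocalization q.primeCompl B := by
    rw [← hsub]; exact Algebra.EssFiniteType.isLocalization A B
  haveI : Algebra.FinitePresentation A S0 := Algebra.FinitePresentation.of_finiteType.mp inferInstance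
  let ρ : B →ₐ[A] ResidueField B := IsScalarTower.toAlgHom A B (ResidueField B)
  let ρ0 : S0 →ₐ[A] ResidueField B := ρ.comp (IsScalarTower.toAlgHom A S0 B)
  haveI : IsNoetherianRing (ResidueField B ⊗[A] B) :=
    isNoetherianRing_of_essFiniteType (ResidueField B) (ResidueField B ⊗[A] B)
  let τ : ResidueField B ⊗[A] B →ₐ[ResidueField B] ResidueField B :=
    Algebra.TensorProduct.lift (Algebra.ofId _ _) ρ fun _ _ => Commute.all _ _
  let τ0 : ResidueField B ⊗[A] S0 →ₐ[ResidueField B] ResidueField B :=
    Algebra.TensorProduct.lift (Algebra.ofId _ _) ρ0 fun _ _ => Commute.all _ _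
  let ι : ResidueField B ⊗[A] S0 →ₐ[ResidueField B] ResidueField B ⊗[A] B :=
    Algebra.TensorProduct.map (AlgHom.id _ _) (IsScalarTower.toAlgHom A S0 B)
  let N : Ideal (ResidueField B ⊗[A] B) := RingHom.ker τ
  haveI : N.IsPrime := RingHom.ker_isPrime _
  let N0 : Ideal (ResidueField B ⊗[A] S0) := RingHom.ker τ0
  haveI : N0.IsPrime := RingHom.ker_isPrime _
  haveI : IsRegularLocalRing (Localization.AtPrime N) :=
    isRegularLocalRing_point hmul h (ResidueField B) ρ N rfl
  algebraize [ι.toRingHom]
  haveI : IsLocalization (q.primeCompl.map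
      (Algebra.TensorProduct.includeRight (R := A) (A := ResidueField B) (B := S0)))
      (ResidueField B ⊗[A] B) :=
    IsLocalization.tensorProduct_tensorProduct_right A (ResidueField B) q.primeCompl B
      (by ext c; simp [RingHom.algebraMap_toAlgebra, ι])
  have hcomp : τ0 = τ.comp ι := by
    refine Algebra.TensorProduct.ext (AlgHom.ext fun x => ?_) (AlgHom.ext fun x => ?_)
    · simp [τ, τ0, ι]
    · simp [τ, τ0, ι, ρ0, ρ]
  have hN0 : N.comap (algebraMap (ResidueField B ⊗[A] S0) (ResidueField B ⊗[A] B)) = N0 := by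
    ext x
    show τ (ι x) = 0 ↔ τ0 x = 0
    rw [hcomp]
    rfl
  haveI : IsLocalization.AtPrime (Localization.AtPrime N) N0 := by
    have := IsLocalization.isLocalization_isLocalization_atPrime_isLocalization
      (q.primeCompl.map (Algebra.TensorProduct.includeRight (R := A) (A := ResidueField B) (B := S0)))
      (Localization.AtPrime N) N
    have key : ∀ (I : Ideal (ResidueField B ⊗[A] S0)) [I.IsPrime], I = N0 →
        IsLocalization.AtPrime (Localization.AtPrime N) I →
        IsLocalization.AtPrime (Localization.AtPrime N) N0 := by rintro I _ rfl h; exact h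
    exact key _ hN0 this
  haveI : IsRegularLocalRing (Localization.AtPrime N0) :=
    IsRegularLocalRing.of_ringEquiv (R := Localization.AtPrime N) (IsLocalization.algEquiv N0.primeCompl
      (Localization.AtPrime N) (Localization.AtPrime N0)).toRingEquiv
  have hsm0 : Algebra.IsSmoothAt (ResidueField B) N0 := isSmoothAt_of_regular_rational τ0 N0 rfl
  let p : Ideal A := q.under A
  have hp : RingHom.ker (algebraMap A (ResidueField B)) = p := by
    ext a
    rw [RingHom.mem_ker, IsScalarTower.algebraMap_apply A B (ResidueField B),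
      ResidueField.algebraMap_eq, residue_eq_zero_iff, IsScalarTower.algebraMap_apply A S0 B]
    rfl
  let ιp : p.ResidueField →ₐ[A] ResidueField B :=
    Ideal.ResidueField.liftₐ p (Algebra.ofId A (ResidueField B)) hp.ge
      (fun a ha => isUnit_iff_ne_zero.mpr fun h0 => ha (hp.le h0))
  algebraize [ιp.toRingHom]
  haveI : IsScalarTower A p.ResidueField (ResidueField B) := .of_algebraMap_eq' ιp.comp_algebraMap.symm
  obtain ⟨q₀, _, hq₀, hq₀'⟩ := GrothLib.LocProp.exists_fibre_smooth p (ResidueField B) N0 hsm0
  have hq : q₀.comap (Algebra.TensorProduct.includeRight (R := A) (A := p.ResidueField) (B := S0)) = q := by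
    rw [hq₀']
    ext x
    show τ0 (1 ⊗ₜ x) = 0 ↔ algebraMap S0 B x ∈ maximalIdeal B
    rw [show τ0 (1 ⊗ₜ x) = residue B (algebraMap S0 B x) by simp [τ0, ρ0, ρ], residue_eq_zero_iff]
  have hflat : Module.Flat A (Localization.AtPrime q) :=
    Module.Flat.of_linearEquiv ((IsLocalization.algEquiv q.primeCompl
      (Localization.AtPrime q) B).restrictScalars A).toLinearEquiv
  have key : ∀ (I : Ideal S0) [I.IsPrime], I = q → Module.Flat A (Localization.AtPrime I) := by
    rintro I _ rfl; exact hflat
  have key' : ∀ (I : Ideal S0) [I.IsPrime], I = q → Algebra.IsSmoothAt A I →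
      Algebra.IsSmoothAt A q := by rintro I _ rfl h; exact h
  haveI hsm : Algebra.IsSmoothAt A q :=
    key' _ hq (GrothLib.LocProp.isSmoothAt_of_flat_of_fibre p q₀ hq₀ (key _ hq))
  obtain ⟨f, hf, hfs⟩ := Algebra.IsSmoothAt.exists_notMem_smooth (R := A) q
  let C := Localization.Away f
  letI : Algebra C B := (IsLocalization.Away.lift (S := C) f (g := algebraMap S0 B)
    (IsLocalization.map_units B (⟨f, hf⟩ : q.primeCompl))).toAlgebra
  haveI : IsScalarTower S0 C B :=
    .of_algebraMap_eq fun x => (IsLocalization.Away.lift_eq f _ x).symm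
  haveI : IsScalarTower A C B := .of_algebraMap_eq fun a => by
    rw [IsScalarTower.algebraMap_apply A S0 C, ← IsScalarTower.algebraMap_apply S0 C B,
      ← IsScalarTower.algebraMap_apply A S0 B]
  refine ⟨C, inferInstance, inferInstance, inferInstance, inferInstance,
    (maximalIdeal B).comap (algebraMap C B), Ideal.comap_isPrime _ _, hfs, ?_⟩
  haveI := IsLocalization.isLocalization_of_submonoid_le C B (Submonoid.powers f) q.primeCompl
    (Submonoid.powers_le.mpr hf)
  refine IsLocalization.of_le (q.primeCompl.map (algebraMap S0 C)) _ ?_ fun r hr => ?_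
  · rintro _ ⟨x, hx, rfl⟩ hmem
    exact hx (by
      show algebraMap S0 B x ∈ maximalIdeal B
      rw [IsScalarTower.algebraMap_apply S0 C B]
      exact hmem)
  · by_contra hu
    exact hr hu

end GrothLib.DiagSmooth
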